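import Cfsg.Agent.Lib.Blocks.CoveringConstituents
import Cfsg.Agent.Lib.Char.AbelianQuotient

/-!
# Covered blocks of a subgroup of index two in characteristic two

The characters of the covering block come in pairs `χ`, `ε χ` and fixed ones.  A pair gives at most
one character of the covered block and a fixed character at most two.
-/

set_option autoImplicit false
set_option linter.unusedSectionVars false

namespace CfsgLib.SymBlock.AltTwo

open Cfsg CfsgLib.Blocks
open scoped ComplexConjugate CfsgLib.Char

variable {G : Type*} [Group G] [Fintype G] {N : Subgroup G} [hN : N.Normal] [Fintype N]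

/-- The product of a character with a sign character. -/
noncomputable def twist (ε : G →* ℤˣ) (χ : IrrCharacter G) : IrrCharacter G :=
  ⟨fun g => (((Units.map (Int.castRingHom ℂ).toMonoidHom).comp ε) g : ℂ) * (χ : G → ℂ) g,
    Char.isIrrCharacter_linear_mul χ.2 _⟩

theorem twist_apply (ε : G →* ℤˣ) (χ : IrrCharacter G) (g : G) :
    (twist ε χ : G → ℂ) g = ((ε g : ℤ) : ℂ) * (χ : G → ℂ) g := rfl

variable (ε : G →* ℤˣ) (hε : ∀ g, g ∈ N ↔ ε g = 1) (hcard : Nat.card G = 2 * Nat.card N)
include hε

theorem twist_restrict (χ : IrrCharacter G) :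
    (fun n : N => (twist ε χ : G → ℂ) n) = fun n : N => (χ : G → ℂ) n := by
  funext n
  rw [twist_apply, (hε n).mp n.2]
  simp

include hcard

theorem classInner_restrict_self (χ : IrrCharacter G) :
    classInner (fun n : N => (χ : G → ℂ) n) (fun n : N => (χ : G → ℂ) n) =
      classInner (χ : G → ℂ) (χ : G → ℂ) + classInner (twist ε χ : G → ℂ) (χ : G → ℂ) := by
  classical
  have hG : (Nat.card N : ℂ) ≠ 0 := Nat.cast_ne_zero.mpr Nat.card_pos.ne'
  simp only [classInner, twist_apply, ← mul_add, ← Finset.sum_add_distrib, hcard, Nat.cast_mul,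
    Nat.cast_ofNat]
  have key : ∑ g : G, ((χ : G → ℂ) g * conj ((χ : G → ℂ) g) +
      ((ε g : ℤ) : ℂ) * (χ : G → ℂ) g * conj ((χ : G → ℂ) g)) =
      2 * ∑ n : N, (χ : G → ℂ) n * conj ((χ : G → ℂ) n) := by
    rw [Finset.mul_sum]
    refine (Fintype.sum_of_injective Subtype.val Subtype.val_injective _ _ (fun g hg => ?_)
      fun n => ?_).symm
    · have h : ε g = -1 := (Int.units_eq_one_or (ε g)).resolve_left fun h => hg ⟨⟨g, (hε g).mpr h⟩, rfl⟩
      rw [h]
      simp
    · rw [(hε n).mp n.2]
      simp only [Units.val_one, Int.cast_one]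
      ring
  rw [key]
  field_simp

open Classical in
theorem card_constituents_le (χ : IrrCharacter G) :
    (Finset.univ.filter fun θ : IrrCharacter N =>
      classInner (fun n : N => (χ : G → ℂ) n) (θ : N → ℂ) ≠ 0).card ≤
      if twist ε χ = χ then 2 else 1 := by
  set r : N → ℂ := fun n => (χ : G → ℂ) n with hr
  have hnat : ∀ θ : IrrCharacter N, ∃ k : ℕ, classInner r (θ : N → ℂ) = k := fun θ =>
    Char.exists_nat_classInner (Char.isCharacter_restrict N (Char.isCharacter_of_isIrr χ.2))
      (Char.isCharacter_of_isIrr θ.2)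
  choose c hc using hnat
  have hexp : r = ∑ θ : IrrCharacter N, (classInner r (θ : N → ℂ)) • (θ : N → ℂ) := by
    have h := Char.classFunction_expansion (G := N) (f := r) fun a x => irr_classFunction χ (a : G) (x : G)
    simpa using h
  have hsq : classInner r r = ((∑ θ, c θ * c θ : ℕ) : ℂ) := by
    conv_lhs => arg 1; rw [hexp]
    rw [Char.classInner_sum_left, Nat.cast_sum]
    refine Finset.sum_congr rfl fun θ _ => ?_
    rw [Char.classInner_smul_left, ← Char.classInner_conj_symm r, hc, map_natCast, Nat.cast_mul]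
  have htot : classInner r r = ((if twist ε χ = χ then 2 else 1 : ℕ) : ℂ) := by
    rw [hr, classInner_restrict_self ε hε hcard χ, Char.classInner_irr_self χ.2,
      Char.classInner_irr (twist ε χ).2 χ.2]
    by_cases h : twist ε χ = χ
    · rw [if_pos h, if_pos (congrArg Subtype.val h)]
      norm_num
    · rw [if_neg h, if_neg fun h' => h (Subtype.ext h')]
      norm_num
  rw [hsq, Nat.cast_inj] at htot
  rw [← htot, Finset.card_eq_sum_ones]
  refine (Finset.sum_le_sum fun θ hθ => ?_).trans
    (Finset.sum_le_sum_of_subset (Finset.subset_univ _))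
  have h0 : c θ ≠ 0 := fun h => (Finset.mem_filter.mp hθ).2 (by rw [hc, h, Nat.cast_zero])
  exact Nat.one_le_iff_ne_zero.mpr (mul_ne_zero h0 h0)

/-- The count. -/
theorem two_mul_card_le {M : Ideal AlgInt} (hM : IsPModular 2 M) {b : Set (IrrCharacter N)}
    (hb : IsPBlock M b) {B : Set (IrrCharacter G)} (hB : IsPBlock M B) {χ : IrrCharacter G}
    (hχ : χ ∈ B) {θ : IrrCharacter N} (hθ : θ ∈ b)
    (hcon : classInner (fun n : N => (χ : G → ℂ) n) (θ : N → ℂ) ≠ 0) :
    2 * Nat.card b ≤ Nat.card B + 3 * Nat.card ↥{ψ ∈ B | twist ε ψ = ψ} := by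
  classical
  have := isPrime_of_isPModular hM
  have : Finite (IrrCharacter G) := CfsgLib.Char.finite_irrCharacter
  have hmem : ∀ ψ ∈ B, twist ε ψ ∈ B := fun ψ hψ => by
    refine IsPBlock.mem_of_sameBlock hB hψ fun g => ?_
    have e1 : (twist ε ψ : G → ℂ) 1 = (ψ : G → ℂ) 1 := by simp [twist_apply]
    rcases Int.units_eq_one_or (ε g) with h | h
    · simp only [centralChar, e1, twist_apply, h, Units.val_one, Int.cast_one, one_mul, sub_self]
      exact memLocalIdeal_zero
    · have e : centralChar (ψ : G → ℂ) g - centralChar (twist ε ψ : G → ℂ) g =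
          ((2 : ℕ) : ℂ) * centralChar (ψ : G → ℂ) g := by
        simp only [centralChar, e1, twist_apply, h, Units.val_neg, Units.val_one, Int.cast_neg,
          Int.cast_one]
        push_cast
        ring
      rw [e]
      exact memLocalIdeal_mul_right ((memLocalIdeal_natCast_iff hM).mpr dvd_rfl)
        (memLocalRing_centralChar ψ g)
  set U : Finset (IrrCharacter G) := Finset.univ.filter (· ∈ B)
  set V : Finset (IrrCharacter N) := Finset.univ.filter (· ∈ b)
  set rel : IrrCharacter G → IrrCharacter N → Prop := fun ψ η =>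
    classInner (fun n : N => (ψ : G → ℂ) n) (η : N → ℂ) ≠ 0
  set w : IrrCharacter G → ℕ := fun ψ => if twist ε ψ = ψ then 2 else 1 with hw
  have h1 : ∀ η ∈ V, 2 ≤ ∑ ψ ∈ U.filter fun ψ => rel ψ η, w ψ := fun η hη => by
    obtain ⟨ψ, hψ, hψη⟩ := exists_constituent_mem_of_covering hM hb hB hχ hθ hcon
      (Finset.mem_filter.mp hη).2
    have hin : ψ ∈ U.filter fun ψ => rel ψ η :=
      Finset.mem_filter.mpr ⟨Finset.mem_filter.mpr ⟨Finset.mem_univ _, hψ⟩, hψη⟩
    by_cases h : twist ε ψ = ψ
    · refine le_trans ?_ (Finset.single_le_sum (fun _ _ => Nat.zero_le _) hin)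
      rw [hw]
      simp [h]
    · have hin' : twist ε ψ ∈ U.filter fun ψ => rel ψ η := by
        refine Finset.mem_filter.mpr ⟨Finset.mem_filter.mpr ⟨Finset.mem_univ _, hmem ψ hψ⟩, ?_⟩
        simp only [rel, twist_restrict ε hε]
        exact hψη
      refine le_trans ?_ (Finset.sum_le_sum_of_subset
        (show ({twist ε ψ, ψ} : Finset _) ⊆ _ from Finset.insert_subset hin' (Finset.singleton_subset_iff.mpr hin)))
      rw [Finset.sum_pair h]
      have : ∀ x, 1 ≤ w x := fun x => by simp only [hw]; split_ifs <;> omega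
      have e₁ := this (twist ε ψ)
      have e₂ := this ψ
      omega
  have h2 : V.card * 2 ≤ ∑ ψ ∈ U, (V.filter fun η => rel ψ η).card * w ψ := by
    refine le_trans (le_of_eq (Finset.sum_const_nat (fun _ _ => rfl)).symm)
      ((Finset.sum_le_sum h1).trans (le_of_eq ?_))
    simp only [Finset.sum_filter]
    rw [Finset.sum_comm]
    refine Finset.sum_congr rfl fun ψ _ => ?_
    rw [← Finset.sum_filter, Finset.sum_const, smul_eq_mul]
  have h3 : ∀ ψ ∈ U, (V.filter fun η => rel ψ η).card * w ψ ≤ 1 + 3 * if twist ε ψ = ψ then 1 else 0 := by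
    intro ψ _
    have h := card_constituents_le ε hε hcard ψ
    have h' : (V.filter fun η => rel ψ η).card ≤ if twist ε ψ = ψ then 2 else 1 :=
      (Finset.card_le_card (Finset.filter_subset_filter _ (Finset.subset_univ V))).trans h
    simp only [hw]
    split_ifs at h' ⊢ <;> omega
  have h4 := h2.trans (Finset.sum_le_sum h3)
  rw [Finset.sum_add_distrib, ← Finset.card_eq_sum_ones, ← Finset.mul_sum, ← Finset.card_filter] at h4
  have eb : Nat.card b = V.card := by
    rw [Nat.card_eq_fintype_card]; exact Fintype.card_subtype _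
  have eB : Nat.card B = U.card := by
    rw [Nat.card_eq_fintype_card]; exact Fintype.card_subtype _
  have eF : Nat.card ↥{ψ ∈ B | twist ε ψ = ψ} = (U.filter fun ψ => twist ε ψ = ψ).card := by
    rw [Nat.card_eq_fintype_card, Finset.filter_filter]; exact Fintype.card_subtype _
  rw [eb, eB, eF]
  omega

end CfsgLib.SymBlock.AltTwo
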