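import Cfsg.Agent.Lib.SymBlock.Model

/-!
# Even permutations on the support of a product of disjoint transpositions
-/

set_option autoImplicit false
set_option linter.unusedSectionVars false

namespace CfsgLib.SymBlock.AltTwo

theorem sign_addRight_four : ∀ a : ZMod 2 × ZMod 2, Equiv.Perm.sign (Equiv.addRight a) = 1 := by decide

theorem add_self_four : ∀ a : ZMod 2 × ZMod 2, a + a = 0 := by decide

variable [Fact (Nat.Prime 2)] {n u r : ℕ} (e : (Fin u × ZMod 2) ⊕ Fin r ≃ Fin n)

theorem sign_supportHom (f : Equiv.Perm (Fin u × ZMod 2)) :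
    Equiv.Perm.sign (supportHom e f) = Equiv.Perm.sign f := by
  rw [show supportHom e f = e.permCongr (Equiv.Perm.sumCongr f 1) from rfl,
    Equiv.Perm.sign_permCongr, Equiv.Perm.sign_sumCongr, map_one, mul_one]

theorem sign_blockHom (v : Multiplicative (Fin u → ZMod 2)) :
    Equiv.Perm.sign (blockHom 2 u v) = (-1) ^ (Finset.univ.filter fun i => v.toAdd i ≠ 0).card := by
  show Equiv.Perm.sign (Equiv.prodCongrRight fun i => Equiv.addRight (v.toAdd i)) = _
  rw [Equiv.Perm.sign_prodCongrRight, Finset.prod_congr rfl fun i _ => sign_addRight (v.toAdd i),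
    ← Finset.prod_const, Finset.prod_filter]
  refine Finset.prod_congr rfl fun i _ => ?_
  by_cases h : v.toAdd i = 0
  · rw [if_pos h, if_neg (not_not.mpr h)]
  · rw [if_neg h, if_pos h]
    decide

/-- Even representatives of sections, each commuting with an odd permutation. -/
theorem exists_even_reps :
    ∃ X : Finset (Equiv.Perm (Fin n)),
      (∀ x ∈ X, x ∈ (supportHom e).range ∧ Equiv.Perm.sign x = 1 ∧ x ≠ 1 ∧ (∃ k, orderOf x = 2 ^ k) ∧
        ∃ t, Commute t x ∧ Equiv.Perm.sign t = -1) ∧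
      (∀ x ∈ X, ∀ y ∈ X, IsConj x y → x = y) ∧
      X.card = u / 2 + if 3 ≤ u then 1 else 0 := by
  classical
  let idx : Fin (u / 2) → Fin u := fun j => ⟨2 * j.val + 1, by omega⟩
  let W : Fin (u / 2) → Equiv.Perm (Fin n) := fun j => modelHom e (firstShift 2 (idx j), 1)
  have hWo : ∀ j, orderOf (W j) = 2 := fun j => by
    refine orderOf_eq_prime (cycleSub_pow e ⟨_, rfl⟩) fun h => ?_
    have h2 := congrFun (congrArg Multiplicative.toAdd
      (Prod.ext_iff.1 (modelHom_injective e (h.trans (map_one _).symm))).1) (idx j)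
    simp [firstShift] at h2
  have hWc : ∀ j l, IsConj (W j) (W l) → j = l := fun j l h => by
    obtain ⟨c, hc⟩ := isConj_iff.1 h
    have h1 : orbCount (W l) = orbCount (W j) := by
      rw [← hc, show c * W j * c⁻¹ = (c : Fin n ≃ Fin n).permCongr (W j) from rfl, orbCount_permCongr]
    have a := orbCount_firstShift e (idx j)
    have b := orbCount_firstShift e (idx l)
    simp only [W] at h1
    rw [h1] at b
    simp only [idx] at a b
    exact Fin.ext (by omega)
  set X₀ := Finset.univ.image W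
  have hX₀ : X₀.card = u / 2 := by
    rw [Finset.card_image_of_injective _ fun j l h => hWc j l ((show W j = W l from h) ▸ IsConj.refl (W j)), Finset.card_univ,
      Fintype.card_fin]
  have hX₀p : ∀ x ∈ X₀, x ∈ (supportHom e).range ∧ Equiv.Perm.sign x = 1 ∧ x ≠ 1 ∧
      (∃ k, orderOf x = 2 ^ k) ∧ ∃ t, Commute t x ∧ Equiv.Perm.sign t = -1 := fun x hx => by
    obtain ⟨j, -, rfl⟩ := Finset.mem_image.1 hx
    refine ⟨⟨_, supportHom_blockHom e _⟩, ?_, fun h => ?_, ⟨1, (hWo j).trans (pow_one 2).symm⟩,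
      modelHom e (Multiplicative.ofAdd (Pi.single (idx j) 1), 1), ?_, ?_⟩
    · simp only [W]
      rw [← supportHom_blockHom, sign_supportHom, sign_blockHom]
      have : (Finset.univ.filter fun i => (firstShift 2 (idx j)).toAdd i ≠ 0) = Finset.Iic (idx j) := by
        ext i
        by_cases hi : i ≤ idx j <;> simp [firstShift, hi]
      rw [this, Fin.card_Iic]
      exact Even.neg_one_pow ⟨j.val + 1, by simp only [idx]; omega⟩
    · have := hWo j
      rw [h, orderOf_one] at this
      omega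
    · exact cycleSub_comm e ⟨_, rfl⟩ ⟨_, rfl⟩
    · rw [← supportHom_blockHom, sign_supportHom, sign_blockHom]
      simp [Pi.single_apply, Finset.filter_eq']
  have hX₀c : ∀ x ∈ X₀, ∀ y ∈ X₀, IsConj x y → x = y := fun x hx y hy h => by
    obtain ⟨j, -, rfl⟩ := Finset.mem_image.1 hx
    obtain ⟨l, -, rfl⟩ := Finset.mem_image.1 hy
    rw [hWc j l h]
  by_cases hu : 3 ≤ u
  swap
  · exact ⟨X₀, hX₀p, hX₀c, by rw [if_neg hu, hX₀, Nat.add_zero]⟩
  let i₀ : Fin u := ⟨0, by omega⟩
  let i₁ : Fin u := ⟨1, by omega⟩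
  let i₂ : Fin u := ⟨2, by omega⟩
  have h01 : i₀ ≠ i₁ := by simp [i₀, i₁]
  have h02 : i₀ ≠ i₂ := by simp [i₀, i₂]
  have h12 : i₁ ≠ i₂ := by simp [i₁, i₂]
  let f : Equiv.Perm (Fin u × ZMod 2) := (Equiv.swap i₀ i₁).prodCongr (Equiv.refl _) *
    blockHom 2 u (Multiplicative.ofAdd (Pi.single i₀ 1 + Pi.single i₂ 1))
  have hf : ∀ i a, f (i, a) = (Equiv.swap i₀ i₁ i,
      a + ((if i = i₀ then 1 else 0) + if i = i₂ then 1 else 0)) := fun i a => by
    show ((Equiv.swap i₀ i₁).prodCongr (Equiv.refl _)) (blockHom 2 u _ (i, a)) = _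
    rw [blockHom_apply, toAdd_ofAdd, Pi.add_apply, Pi.single_apply, Pi.single_apply]
    rfl
  let t : Equiv.Perm (Fin u × ZMod 2) := blockHom 2 u (Multiplicative.ofAdd (Pi.single i₂ 1))
  have htf : Commute t f := by
    refine Equiv.ext fun ⟨i, a⟩ => ?_
    show t (f (i, a)) = f (t (i, a))
    rw [hf, blockHom_apply, blockHom_apply, hf, toAdd_ofAdd,
      Pi.single_apply, Pi.single_apply]
    by_cases h2 : i = i₂
    · subst h2
      simp [Equiv.swap_apply_of_ne_of_ne h02.symm h12.symm, h02.symm, add_comm, add_left_comm]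
    · have : Equiv.swap i₀ i₁ i ≠ i₂ := fun h => h2 (by
        have := congrArg (Equiv.swap i₀ i₁) h
        rwa [Equiv.swap_apply_self, Equiv.swap_apply_of_ne_of_ne h02.symm h12.symm] at this)
      simp [h2, this]
  have hf2 : f ^ 2 = blockHom 2 u (Multiplicative.ofAdd (Pi.single i₀ 1 + Pi.single i₁ 1)) := by
    refine Equiv.ext fun ⟨i, a⟩ => ?_
    rw [pow_two]
    show f (f (i, a)) = _
    rw [hf, hf, blockHom_apply, toAdd_ofAdd, Pi.add_apply, Pi.single_apply,
      Pi.single_apply, Equiv.swap_apply_self]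
    have h11 : (1 : ZMod 2) + 1 = 0 := rfl
    by_cases h0 : i = i₀
    · subst h0; simp [h01, h02, h12, Ne.symm h01]
    by_cases h1 : i = i₁
    · subst h1; simp [h02, h12, Ne.symm h01]
    by_cases h2 : i = i₂
    · subst h2; simp [h0, h1, Equiv.swap_apply_of_ne_of_ne h0 h1, add_assoc, h11]
    simp [h0, h1, h2, Equiv.swap_apply_of_ne_of_ne h0 h1]
  have hsupp : (Finset.univ.filter fun i => Multiplicative.toAdd
      (Multiplicative.ofAdd (Pi.single i₀ (1 : ZMod 2) + Pi.single i₂ 1 : Fin u → ZMod 2)) i ≠ 0) = {i₀, i₂} := by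
    ext i
    by_cases h0 : i = i₀
    · subst h0; simp [h02]
    by_cases h2 : i = i₂ <;> simp [h0, h2, Ne.symm h02]
  have hy2 : supportHom e f ^ 2 ≠ 1 := fun h => by
    rw [← map_pow, hf2, supportHom_blockHom] at h
    have h1 := congrFun (congrArg Multiplicative.toAdd
      (Prod.ext_iff.1 (modelHom_injective e (h.trans (map_one _).symm))).1) i₀
    simp [Pi.single_eq_of_ne h01] at h1
  have hy : orderOf (supportHom e f) = 2 ^ 2 := by
    refine orderOf_eq_prime_pow (n := 1) (by rwa [pow_one]) ?_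
    show supportHom e f ^ (2 * 2) = 1
    rw [pow_mul, ← map_pow, hf2, supportHom_blockHom]
    exact cycleSub_pow e ⟨_, rfl⟩
  have hne : ∀ x ∈ X₀, ¬ IsConj x (supportHom e f) := fun x hx h => by
    obtain ⟨j, -, rfl⟩ := Finset.mem_image.1 hx
    obtain ⟨c, hc⟩ := isConj_iff.1 h
    have h1 : orderOf (supportHom e f) = orderOf (W j) := by
      rw [← hc]
      exact orderOf_injective (MulAut.conj c).toMonoidHom (MulAut.conj c).injective _
    rw [hy, hWo] at h1
    norm_num at h1
  refine ⟨insert (supportHom e f) X₀, fun x hx => ?_, fun x hx y hy' h => ?_, ?_⟩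
  · rcases Finset.mem_insert.1 hx with rfl | hx
    · refine ⟨⟨f, rfl⟩, ?_, fun h => by rw [h, orderOf_one] at hy; norm_num at hy, ⟨2, hy⟩,
        supportHom e t, htf.map _, ?_⟩
      · rw [sign_supportHom, map_mul, sign_blockHom,
          show (Equiv.swap i₀ i₁).prodCongr (Equiv.refl (ZMod 2)) =
            Equiv.prodCongrLeft (fun _ => Equiv.swap i₀ i₁) from Equiv.ext fun _ => rfl,
          Equiv.Perm.sign_prodCongrLeft, Finset.prod_const, Finset.card_univ, ZMod.card,
          Equiv.Perm.sign_swap h01,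
          hsupp, Finset.card_pair h02]
        rfl
      · rw [sign_supportHom, sign_blockHom]
        simp [Pi.single_apply, Finset.filter_eq']
    · exact hX₀p x hx
  · rcases Finset.mem_insert.1 hx with rfl | hx <;> rcases Finset.mem_insert.1 hy' with rfl | hy'
    · rfl
    · exact absurd h.symm (hne y hy')
    · exact absurd h (hne x hx)
    · exact hX₀c x hx y hy' h
  · rw [if_pos hu, Finset.card_insert_of_notMem fun h => hne _ h (IsConj.refl _), hX₀]

/-- Regular four-groups on quadruples of points. -/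
theorem exists_four_groups {v : ℕ} (e : (Fin (v + v) × ZMod 2) ⊕ Fin r ≃ Fin n) :
    ∃ A : Subgroup (Equiv.Perm (Fin n)), A ≤ (supportHom e).range ∧ A ≤ alternatingGroup (Fin n) ∧
      (∀ x ∈ A, ∀ y ∈ A, x * y = y * x) ∧ (∀ x ∈ A, x ^ 2 = 1) ∧ Nat.card A = 2 ^ (v + v) := by
  let φ : Multiplicative (Fin v → ZMod 2 × ZMod 2) →* Equiv.Perm (Fin v × (ZMod 2 × ZMod 2)) :=
    { toFun := fun w => Equiv.prodCongrRight fun i => Equiv.addRight (w.toAdd i)
      map_one' := Equiv.ext fun x => Prod.ext rfl (add_zero x.2)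
      map_mul' := fun w z => Equiv.ext fun x => by
        refine Prod.ext rfl ?_
        show x.2 + (w * z).toAdd x.1 = x.2 + z.toAdd x.1 + w.toAdd x.1
        rw [toAdd_mul, Pi.add_apply]
        abel }
  let E : Fin v × (ZMod 2 × ZMod 2) ≃ Fin (v + v) × ZMod 2 :=
    (Equiv.prodAssoc _ _ _).symm.trans (Equiv.prodCongr
      (Fintype.equivFinOfCardEq (by simp [Fintype.card_prod, ZMod.card, Nat.mul_two])) (Equiv.refl _))
  let ψ : Multiplicative (Fin v → ZMod 2 × ZMod 2) →* Equiv.Perm (Fin n) :=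
    (supportHom e).comp ((Equiv.permCongrHom E).toMonoidHom.comp φ)
  have hφ : Function.Injective φ := fun w z h => Multiplicative.toAdd.injective (funext fun i => by
    have h1 := congrArg Prod.snd (congrArg (fun g : Equiv.Perm (Fin v × (ZMod 2 × ZMod 2)) => g (i, 0)) h :
      φ w (i, 0) = φ z (i, 0))
    change 0 + w.toAdd i = 0 + z.toAdd i at h1
    simpa using h1)
  have hψ : Function.Injective ψ := (supportHom_injective e).comp ((Equiv.permCongrHom E).injective.comp hφ)
  refine ⟨ψ.range, ?_, ?_, ?_, ?_, ?_⟩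
  · rintro _ ⟨w, rfl⟩
    exact ⟨_, rfl⟩
  · rintro _ ⟨w, rfl⟩
    rw [Equiv.Perm.mem_alternatingGroup]
    show Equiv.Perm.sign (supportHom e (E.permCongr (φ w))) = 1
    rw [sign_supportHom, Equiv.Perm.sign_permCongr]
    show Equiv.Perm.sign (Equiv.prodCongrRight fun i => Equiv.addRight (w.toAdd i)) = 1
    rw [Equiv.Perm.sign_prodCongrRight]
    exact Finset.prod_eq_one fun i _ => sign_addRight_four _
  · rintro _ ⟨w, rfl⟩ _ ⟨z, rfl⟩
    rw [← map_mul, ← map_mul, mul_comm]
  · rintro _ ⟨w, rfl⟩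
    rw [← map_pow, ← map_one ψ]
    congr 1
    exact Multiplicative.toAdd.injective (funext fun i => by
      simp only [toAdd_pow, toAdd_one, Pi.smul_apply, Pi.zero_apply, two_nsmul]
      exact add_self_four _)
  · rw [← Nat.card_congr (MonoidHom.ofInjective hψ).toEquiv]
    simp [pow_add, ← mul_pow]

end CfsgLib.SymBlock.AltTwo
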