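import Cfsg.Agent.Lib.SymBlock.Main
import Cfsg.Agent.Lib.SymBlock.SelfConj
import Cfsg.Agent.Lib.SymBlock.AltTwo.Constituents
import Cfsg.Agent.Lib.SymBlock.AltTwo.Elements
import Cfsg.Agent.Lib.Blocks.CoveringDefect

/-!
# Blocks of alternating groups in characteristic two
-/

set_option autoImplicit false
set_option linter.unusedSectionVars false

namespace CfsgLib.SymBlock.AltTwo

open Cfsg CfsgLib.Blocks

theorem card_le_of_sectional {G : Type*} [Group G] {p s : ℕ} (hs : SectionalPRankLE p s G) (A : Subgroup G)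
    (hcomm : ∀ a ∈ A, ∀ b ∈ A, a * b = b * a) (hpow : ∀ a ∈ A, a ^ p = 1) : Nat.card A ≤ p ^ s := by
  have h1 := hs A ⊥ ⊤ ⟨⟨fun a b => Subtype.ext ?_⟩⟩ (fun a _ => ?_)
  · rwa [Nat.card_congr Subgroup.topEquiv.toEquiv, Nat.card_congr QuotientGroup.quotientBot.toEquiv] at h1
  · obtain ⟨x, hx⟩ := QuotientGroup.mk'_surjective (⊥ : Subgroup A) a.1
    obtain ⟨y, hy⟩ := QuotientGroup.mk'_surjective (⊥ : Subgroup A) b.1
    simp only [Subgroup.coe_mul, ← hx, ← hy, ← map_mul,
      (Subtype.ext (hcomm x x.2 y y.2) : x * y = y * x)]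
  · obtain ⟨x, rfl⟩ := QuotientGroup.mk'_surjective (⊥ : Subgroup A) a
    rw [← map_pow, (Subtype.ext (hpow x x.2) : x ^ p = 1), map_one]

theorem three_mul_part_lt : ∀ {v : ℕ}, 1 ≤ v → 3 * part v v < 4 ^ v := by
  have hfib : ∀ v, Nat.fib (v + 1) ≤ 2 ^ v := fun v => by
    induction v with
    | zero => simp
    | succ v ih =>
      have h : Nat.fib v ≤ Nat.fib (v + 1) := Nat.fib_le_fib_succ
      rw [Nat.fib_add_two, pow_succ]
      omega
  intro v hv
  rcases Nat.lt_or_ge v 2 with h | h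
  · obtain rfl : v = 1 := by omega
    rw [part_one_left]
    norm_num
  · have h1 := (part_le_fib v v).trans (hfib v)
    have h2 : 4 ≤ 2 ^ v := le_trans (by norm_num) (Nat.pow_le_pow_right (by omega) h)
    have h3 : (4 : ℕ) ^ v = 2 ^ v * 2 ^ v := (mul_pow 2 2 v)
    rw [h3]
    nlinarith

/-- A two-subgroup on the support of the widest involution is conjugate into the defect group. -/
theorem exists_conj_le [Fact (Nat.Prime 2)] {n u r : ℕ} (e : (Fin u × ZMod 2) ⊕ Fin r ≃ Fin n)
    {M : Ideal AlgInt} (hM : IsPModular 2 M) {B : Set (IrrCharacter (Equiv.Perm (Fin n)))}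
    (hB : IsPBlock M B) {P : Subgroup (Equiv.Perm (Fin n))} (hP : IsDefectGroup 2 M B P)
    {c₀ : Equiv.Perm (Fin n)} (hc₀ : (cycleSub e).map (MulAut.conj c₀).toMonoidHom ≤ P)
    {A : Subgroup (Equiv.Perm (Fin n))} (hA : IsPGroup 2 A) (hAe : A ≤ (supportHom e).range) :
    ∃ c : Equiv.Perm (Fin n), A.map (MulAut.conj c).toMonoidHom ≤ P := by
  obtain ⟨g, hg, hsyl⟩ := isDefectGroup_iff.mp hP
  set g' := c₀⁻¹ * g * c₀ with hg'
  have hgH : g' ∈ (modelHom e).range := by
    rw [← centralizer_cycleSub e, Subgroup.mem_centralizer_iff]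
    intro y hy
    have h := Subgroup.mem_centralizer_singleton_iff.mp (hsyl.1 (hc₀ ⟨y, hy, rfl⟩))
    simp only [MulEquiv.coe_toMonoidHom, MulAut.conj_apply] at h
    calc y * g' = c₀⁻¹ * ((c₀ * y * c₀⁻¹) * g) * c₀ := by rw [hg']; group
      _ = c₀⁻¹ * (g * (c₀ * y * c₀⁻¹)) * c₀ := by rw [h]
      _ = g' * y := by rw [hg']; group
  have hreg : ¬ 2 ∣ orderOf g' := by
    have h : g' = MulAut.conj c₀⁻¹ g := by simp [hg']
    rw [h, MulEquiv.orderOf_eq]
    exact IsDefectClass.isPRegular hM hB hg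
  obtain ⟨y, -, hy⟩ := hsyl.exists_conj_le (hA.map (MulAut.conj c₀).toMonoidHom)
    (by
      rintro _ ⟨a, ha, rfl⟩
      obtain ⟨f, rfl⟩ := hAe ha
      have hcomm := commute_supportHom_of_regular e hgH hreg f
      rw [Subgroup.mem_centralizer_singleton_iff]
      simp only [MulEquiv.coe_toMonoidHom, MulAut.conj_apply]
      calc c₀ * supportHom e f * c₀⁻¹ * g = c₀ * (supportHom e f * g') * c₀⁻¹ := by rw [hg']; group
        _ = c₀ * (g' * supportHom e f) * c₀⁻¹ := by rw [hcomm.eq]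
        _ = g * (c₀ * supportHom e f * c₀⁻¹) := by rw [hg']; group)
  refine ⟨y⁻¹ * c₀, ?_⟩
  rintro _ ⟨a, ha, rfl⟩
  obtain ⟨w, hw, hwe⟩ := hy ⟨a, ha, rfl⟩
  have hcalc : (MulAut.conj (y⁻¹ * c₀)).toMonoidHom a = w := by
    simp only [MulEquiv.coe_toMonoidHom, MulAut.conj_apply] at hwe ⊢
    calc y⁻¹ * c₀ * a * (y⁻¹ * c₀)⁻¹ = y⁻¹ * (c₀ * a * c₀⁻¹) * y := by group
      _ = y⁻¹ * (y * w * y⁻¹) * y := by rw [hwe]
      _ = w := by group
  exact hcalc ▸ hw

/-- The rank of a two-block of an alternating group with nontrivial defect group. -/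
theorem blockRank_lt_two [Fact (Nat.Prime 2)] {n : ℕ} {M : Ideal AlgInt} (hM : IsPModular 2 M)
    {b : Set (IrrCharacter (alternatingGroup (Fin n)))} (hb : IsPBlock M b)
    {D : Subgroup (alternatingGroup (Fin n))} (hD : IsDefectGroup 2 M b D) (hD1 : D ≠ ⊥) {s : ℕ}
    (hs : SectionalPRankLE 2 s D) : blockRank 2 b < 2 ^ s := by
  classical
  have := isPrime_of_isPModular hM
  obtain ⟨θ, hθ⟩ := IsPBlock.nonempty hb
  obtain ⟨χ, hcon⟩ := exists_irr_above θ
  set B := blockOf M (χ : Equiv.Perm (Fin n) → ℂ)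
  have hB : IsPBlock M B := isPBlock_blockOf χ
  have hχ : χ ∈ B := mem_blockOf_self χ
  -- defect groups
  set Q := D.map (alternatingGroup (Fin n)).subtype
  have hQN : Q ≤ alternatingGroup (Fin n) := Subgroup.map_subtype_le D
  have hQD : Q.subgroupOf (alternatingGroup (Fin n)) = D := Subgroup.comap_map_eq_self_of_injective (alternatingGroup (Fin n)).subtype_injective D
  obtain ⟨P₀, hP₀⟩ := exists_isDefectGroup hM hB
  obtain ⟨P, hP, hPN⟩ := exists_defectGroup_inf_eq hb hB hχ hθ hcon hM hQN (hQD.symm ▸ hD) hP₀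
  have hback : ∀ x : (alternatingGroup (Fin n)), (x : Equiv.Perm (Fin n)) ∈ P → x ∈ D := fun x hx => by
    rw [← hQD, Subgroup.mem_subgroupOf, ← hPN]
    exact ⟨hx, x.2⟩
  obtain ⟨u, r, e, hn, -, hmax, ⟨c₀, hc₀⟩, hconj, -, hu1, hdata⟩ := exists_block_data hM hB hP
  -- an even involution of the defect group moves at least four points
  have hu : 2 ≤ u := by
    obtain ⟨z, hz, hz2, hz1⟩ := pos_of_isDefectGroup (p := 2)
      (D := Q) ((IsDefectGroup.isPGroup hM hP).to_le (hPN ▸ inf_le_left)) (fun h => hD1 (by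
        rw [← hQD, h]; simp))
    rw [← hPN] at hz
    have hle := hmax z hz.1 hz2
    have h2 := support_card_of_pow_prime hz2
    have h0 : z.support.card ≠ 0 := fun h => hz1 (Equiv.Perm.card_support_eq_zero.mp h)
    by_contra hlt
    have hcard : z.support.card = 2 := by
      rcases Nat.lt_or_ge u 1 with h | h
      · rw [show u = 0 by omega] at hle; omega
      · rw [show u = 1 by omega] at hle; omega
    have h3 := (Equiv.Perm.card_support_eq_two.mp hcard).sign_eq
    rw [Equiv.Perm.mem_alternatingGroup.mp hz.2] at h3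
    exact absurd h3 (by decide)
  -- elementary abelian even groups on the support
  have hrank : ∀ A : Subgroup (Equiv.Perm (Fin n)), A ≤ (supportHom e).range → A ≤ (alternatingGroup (Fin n)) →
      (∀ x ∈ A, ∀ y ∈ A, x * y = y * x) → (∀ x ∈ A, x ^ 2 = 1) → Nat.card A ≤ 2 ^ s := by
    intro A hAe hAN hcomm hpow
    obtain ⟨c, hc⟩ := exists_conj_le e hM hB hP hc₀ (A := A)
      (fun a => ⟨1, Subtype.ext (by simpa using hpow a a.2)⟩) hAe
    set A₁ := A.map (MulAut.conj c).toMonoidHom with hA₁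
    have hA₁N : A₁ ≤ alternatingGroup (Fin n) := by
      rintro _ ⟨a, ha, rfl⟩
      exact (inferInstance : (alternatingGroup (Fin n)).Normal).conj_mem a (hAN ha) c
    have hA₁D : A₁.subgroupOf (alternatingGroup (Fin n)) ≤ D := fun x hx => hback x (hc (Subgroup.mem_subgroupOf.mp hx))
    have hcard : Nat.card ((A₁.subgroupOf (alternatingGroup (Fin n))).subgroupOf D) = Nat.card A := by
      rw [Nat.card_congr (Subgroup.subgroupOfEquivOfLe hA₁D).toEquiv,
        Nat.card_congr (Subgroup.subgroupOfEquivOfLe hA₁N).toEquiv, hA₁, card_map_conj]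
    rw [← hcard]
    refine card_le_of_sectional hs _ (fun a ha a' ha' => ?_) fun a ha => ?_
    · obtain ⟨y, hy, hya⟩ := Subgroup.mem_map.mp (show ((a : (alternatingGroup (Fin n))) : Equiv.Perm (Fin n)) ∈ A₁ from ha)
      obtain ⟨y', hy', hya'⟩ := Subgroup.mem_map.mp (show ((a' : (alternatingGroup (Fin n))) : Equiv.Perm (Fin n)) ∈ A₁ from ha')
      refine Subtype.ext (Subtype.ext ?_)
      simp only [Subgroup.coe_mul, ← hya, ← hya', ← map_mul, hcomm y hy y' hy']
    · obtain ⟨y, hy, hya⟩ := Subgroup.mem_map.mp (show ((a : (alternatingGroup (Fin n))) : Equiv.Perm (Fin n)) ∈ A₁ from ha)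
      refine Subtype.ext (Subtype.ext ?_)
      simp only [SubmonoidClass.coe_pow, ← hya, ← map_pow, hpow y hy, map_one, OneMemClass.coe_one]
  -- the sections
  obtain ⟨X, hX, hXne, hXcard⟩ := exists_even_reps e
  have hXN : ∀ x ∈ X, x ∈ alternatingGroup (Fin n) := fun x hx => Equiv.Perm.mem_alternatingGroup.mpr (hX x hx).2.1
  have hsec := card_sections_add_blockRank_le hM hb hD (X.subtype (· ∈ (alternatingGroup (Fin n))))
    (fun x hx => by
      obtain ⟨-, -, h1, ⟨k, hk⟩, -⟩ := hX x (Finset.mem_subtype.mp hx)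
      refine ⟨fun h => h1 (by rw [h]; rfl), k, ?_⟩
      rw [← hk, Subgroup.orderOf_coe])
    (fun x hx y hy h => Subtype.ext (hXne x (Finset.mem_subtype.mp hx) y (Finset.mem_subtype.mp hy)
      (MonoidHom.map_isConj (alternatingGroup (Fin n)).subtype h)))
    (fun x hx => by
      obtain ⟨⟨f, hf⟩, hs1, -, ⟨k, hk⟩, t, htx, htsgn⟩ := hX x (Finset.mem_subtype.mp hx)
      obtain ⟨c, hc⟩ := hconj f ⟨k, by rw [← hk, ← hf, orderOf_injective _ (supportHom_injective e)]⟩
      rw [hf] at hc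
      rcases Int.units_eq_one_or (Equiv.Perm.sign c) with h | h
      · refine ⟨⟨c, Equiv.Perm.mem_alternatingGroup.mpr h⟩, hback _ ?_⟩
        simpa using hc
      · refine ⟨⟨c * t, Equiv.Perm.mem_alternatingGroup.mpr (by rw [map_mul, h, htsgn]; rfl)⟩,
          hback _ ?_⟩
        have e1 : c * t * (x : Equiv.Perm (Fin n)) * (c * t)⁻¹ = c * x * c⁻¹ := by
          rw [mul_assoc c t, htx.eq]; group
        show c * t * (x : Equiv.Perm (Fin n)) * (c * t)⁻¹ ∈ P
        rw [e1]
        exact hc)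
  have hXcard' : (X.subtype (· ∈ (alternatingGroup (Fin n)))).card = X.card := by
    rw [Finset.card_subtype, Finset.filter_true_of_mem hXN]
  rw [hXcard', hXcard] at hsec
  -- the count of characters
  have hcount := two_mul_card_le (N := alternatingGroup (Fin n)) Equiv.Perm.sign (fun g => Equiv.Perm.mem_alternatingGroup)
    (by
      have : Nontrivial (Fin n) := Fin.nontrivial_iff_two_le.mpr (by omega)
      exact two_mul_nat_card_alternatingGroup.symm)
    hM hb hB hχ hθ hcon
  obtain ⟨S₀, -, -, -, -, -, -, -, hcore, hrun⟩ := hdata (2 * n) (by omega)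
  have : Finite (IrrCharacter (Equiv.Perm (Fin n))) := CfsgLib.Char.finite_irrCharacter
  have hfin : Finite {S : Finset ℕ // IsShape (2 * n) n S} := Finite.of_injective _ semiChar_injective
  have : Fintype {S : Finset ℕ // IsShape (2 * n) n S} := Fintype.ofFinite _
  have hequiv : ∀ s : Set (IrrCharacter (Equiv.Perm (Fin n))),
      Nat.card s = (((Finset.univ : Finset {S : Finset ℕ // IsShape (2 * n) n S}).filter
        fun S => semiChar S ∈ s).image Subtype.val).card := fun s => by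
    rw [Finset.card_image_of_injective _ Subtype.val_injective, ← Fintype.card_subtype,
      ← Nat.card_eq_fintype_card]
    exact (Nat.card_congr ((Equiv.ofBijective semiChar
      ⟨semiChar_injective, semiChar_surjective (by omega)⟩).subtypeEquiv fun S => Iff.rfl)).symm
  have hrun' : ∀ S : {S : Finset ℕ // IsShape (2 * n) n S}, semiChar S ∈ B →
      ∀ y, runnerCount 2 S.1 y = runnerCount 2 S₀.1 y := fun S hS => by
    obtain ⟨S', hS', hr'⟩ := hrun _ hS
    obtain rfl := semiChar_injective hS'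
    exact hr'
  have hk : Nat.card B ≤ 2 ^ u + u := by
    rw [hequiv]
    refine (card_shapes_le hn.symm S₀.2 hcore _ (fun S hS => ?_) (fun q => part q q)
      fun c q => (card_runnerSets_le c q).trans (part_le_diag c q)).trans (conv_part_two hu)
    obtain ⟨S', hS', rfl⟩ := Finset.mem_image.mp hS
    exact ⟨S'.2, hrun' S' (Finset.mem_filter.mp hS').2⟩
  have hf : Nat.card ↥{ψ ∈ B | twist Equiv.Perm.sign ψ = ψ} ≤
      if Even u then part (u / 2) (u / 2) else 0 := by
    rw [hequiv]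
    refine card_symmetric_two_le rfl hn.symm S₀.2 hcore _ fun S hS => ?_
    obtain ⟨S', hS', rfl⟩ := Finset.mem_image.mp hS
    simp only [Finset.mem_filter, Set.mem_ofPred_eq] at hS'
    obtain ⟨-, hSB, hfix⟩ := hS'
    exact ⟨S'.2, hrun' S' hSB, antisymm_of_fixed S' (by omega) fun σ =>
      congrArg (fun ψ : IrrCharacter (Equiv.Perm (Fin n)) => (ψ : Equiv.Perm (Fin n) → ℂ) σ) hfix⟩
  rcases Nat.even_or_odd u with hev | hodd
  · obtain ⟨v, rfl⟩ := hev
    obtain ⟨A, hAe, hAN, hcomm, hpow, hAcard⟩ := exists_four_groups e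
    have hle := hrank A hAe hAN hcomm hpow
    rw [hAcard] at hle
    rw [if_pos ⟨v, rfl⟩, show (v + v) / 2 = v by omega] at hf
    have hp := three_mul_part_lt (show 1 ≤ v by omega)
    rw [show (4 : ℕ) ^ v = 2 ^ (v + v) by rw [← two_mul v, pow_mul]; norm_num] at hp
    split_ifs at hsec <;> omega
  · rw [if_neg (Nat.not_even_iff_odd.mpr hodd)] at hf
    rw [if_pos (by obtain ⟨w, rfl⟩ := hodd; omega)] at hsec
    have hle := hrank (cycleSub e ⊓ (alternatingGroup (Fin n))) (inf_le_left.trans fun y ⟨v, hv⟩ => hv ▸ ⟨_, supportHom_blockHom e v⟩)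
      inf_le_right (fun x hx y hy => cycleSub_comm e hx.1 hy.1) fun x hx => cycleSub_pow e hx.1
    have hidx : 2 ^ u ≤ 2 * Nat.card ↥(cycleSub e ⊓ (alternatingGroup (Fin n))) := by
      have h1 : (alternatingGroup (Fin n)).relIndex (cycleSub e) ∣ (alternatingGroup (Fin n)).index := Subgroup.relIndex_dvd_index_of_normal (alternatingGroup (Fin n)) _
      have : Nontrivial (Fin n) := Fin.nontrivial_iff_two_le.mpr (by omega)
      rw [alternatingGroup.index_eq_two] at h1
      have h2 := Nat.le_of_dvd two_pos h1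
      rw [← card_cycleSub e, ← Subgroup.card_mul_index ((alternatingGroup (Fin n)).subgroupOf (cycleSub e)), inf_comm,
        ← Nat.card_congr (Subgroup.subgroupOfEquivOfLe (inf_le_right : (alternatingGroup (Fin n)) ⊓ cycleSub e ≤ cycleSub e)).toEquiv,
        Subgroup.inf_subgroupOf_right]
      rw [Subgroup.relIndex] at h2
      rw [Nat.mul_comm 2]
      exact Nat.mul_le_mul_left _ h2
    obtain ⟨w, rfl⟩ := hodd
    have e2 : 2 ^ (2 * w + 1) = 2 * 2 ^ (2 * w) := by rw [pow_succ, Nat.mul_comm]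
    omega

end CfsgLib.SymBlock.AltTwo
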